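import Mathlib.RingTheory.IsTensorProduct
import Mathlib.RingTheory.GradedAlgebra.RingHom
import Mathlib.Algebra.DirectSum.Decomposition
import Mathlib.LinearAlgebra.TensorProduct.Tower

/-!
# The graded pieces of a base change of a graded algebra
-/

universe u

set_option autoImplicit false
set_option linter.all false

open TensorProduct

noncomputable section

namespace GrothLib.TwistBC8

variable {R R' A B : Type u} [CommRing R'] [CommRing R] [Algebra R' R]
  [CommRing B] [Algebra R' B] (ℬ : ℕ → Submodule R' B) [GradedAlgebra ℬ]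
  [CommRing A] [Algebra R A] [Algebra R' A] [IsScalarTower R' R A] (𝒜 : ℕ → Submodule R A) [GradedAlgebra 𝒜]
  [Algebra B A] [IsScalarTower R' B A]

/-- The inclusion of a graded piece, over the base change. -/
def pieceMap (i : ℕ) : R ⊗[R'] ℬ i →ₗ[R] A :=
  LinearMap.liftBaseChange R ((IsScalarTower.toAlgHom R' B A).toLinearMap ∘ₗ (ℬ i).subtype)

theorem pieceMap_tmul (i : ℕ) (r : R) (b : ℬ i) :
    pieceMap (A := A) ℬ i (r ⊗ₜ b) = algebraMap R A r * algebraMap B A (b : B) := by
  simp [pieceMap, Algebra.smul_def]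

variable {ℬ 𝒜} (φ : ℬ →+*ᵍ 𝒜) (hφA : ∀ b : B, φ b = algebraMap B A b)

include φ hφA in
theorem pieceMap_mem (i : ℕ) (t : R ⊗[R'] ℬ i) : pieceMap (A := A) ℬ i t ∈ 𝒜 i := by
  induction t using TensorProduct.induction_on with
  | zero => rw [map_zero]; exact zero_mem _
  | add x y hx hy => rw [map_add]; exact add_mem hx hy
  | tmul r b =>
    rw [pieceMap_tmul, ← Algebra.smul_def, ← hφA]
    exact Submodule.smul_mem _ r (φ.map_mem b.2)

theorem graded_decompose (b : B) (i : ℕ) :
    (DirectSum.decompose 𝒜 (φ b) i : A) = φ (DirectSum.decompose ℬ b i : B) := by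
  induction b using DirectSum.Decomposition.inductionOn ℬ with
  | zero => rw [map_zero, DirectSum.decompose_zero, DirectSum.decompose_zero, DirectSum.zero_apply, DirectSum.zero_apply, ZeroMemClass.coe_zero, ZeroMemClass.coe_zero, map_zero]
  | add x y hx hy =>
    rw [map_add, DirectSum.decompose_add, DirectSum.decompose_add, DirectSum.add_apply, DirectSum.add_apply,
      Submodule.coe_add, Submodule.coe_add, hx, hy, map_add]
  | @homogeneous j m =>
    have hm : φ (m : B) ∈ 𝒜 j := φ.map_mem m.2
    rcases eq_or_ne j i with rfl | hji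
    · rw [DirectSum.decompose_of_mem_same 𝒜 hm, DirectSum.decompose_of_mem_same ℬ m.2]
    · rw [DirectSum.decompose_of_mem_ne 𝒜 hm hji, DirectSum.decompose_of_mem_ne ℬ m.2 hji, map_zero]

include φ hφA in
theorem exists_pieceMap_eq [hP : Algebra.IsPushout R' R B A] (i : ℕ) {a : A} (ha : a ∈ 𝒜 i) :
    ∃ t : R ⊗[R'] ℬ i, pieceMap (A := A) ℬ i t = a := by
  suffices h : ∀ z : R ⊗[R'] B, ∃ t : R ⊗[R'] ℬ i,
      pieceMap (A := A) ℬ i t = (DirectSum.decompose 𝒜 (hP.out.equiv z) i : A) by
    obtain ⟨t, ht⟩ := h (hP.out.equiv.symm a)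
    exact ⟨t, by rw [ht, LinearEquiv.apply_symm_apply, DirectSum.decompose_of_mem_same 𝒜 ha]⟩
  intro z
  induction z using TensorProduct.induction_on with
  | zero => exact ⟨0, by simp⟩
  | add x y hx hy =>
    obtain ⟨t, ht⟩ := hx
    obtain ⟨t', ht'⟩ := hy
    exact ⟨t + t', by simp [ht, ht', DirectSum.decompose_add]⟩
  | tmul r b =>
    refine ⟨r ⊗ₜ DirectSum.decompose ℬ b i, ?_⟩
    rw [pieceMap_tmul, IsBaseChange.equiv_tmul, DirectSum.decompose_smul]
    show _ = r • (DirectSum.decompose 𝒜 (algebraMap B A b) i : A)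
    rw [← hφA b, graded_decompose φ, hφA, Algebra.smul_def]

omit [GradedAlgebra 𝒜] in
theorem injective_pieceMap [hP : Algebra.IsPushout R' R B A] (i : ℕ) :
    Function.Injective (pieceMap (R := R) (A := A) ℬ i) := by
  let π : B →ₗ[R'] ℬ i :=
    (DirectSum.component R' ℕ (fun j => ℬ j) i).comp (DirectSum.decomposeLinearEquiv ℬ).toLinearMap
  have hπ : π ∘ₗ (ℬ i).subtype = LinearMap.id := LinearMap.ext fun b => Subtype.ext (DirectSum.decompose_of_mem_same ℬ b.2)
  have hinj : Function.Injective ((ℬ i).subtype.lTensor R) := by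
    refine Function.LeftInverse.injective (g := π.lTensor R) fun t => ?_
    rw [← LinearMap.comp_apply, ← LinearMap.lTensor_comp, hπ, LinearMap.lTensor_id, LinearMap.id_apply]
  have e : ∀ t, pieceMap (A := A) ℬ i t = hP.out.equiv ((ℬ i).subtype.lTensor R t) := fun t => by
    induction t using TensorProduct.induction_on with
    | zero => simp
    | add x y hx hy => simp [hx, hy]
    | tmul r b => rw [pieceMap_tmul, LinearMap.lTensor_tmul, IsBaseChange.equiv_tmul, Algebra.smul_def]; rfl
  intro x y hxy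
  rw [e, e] at hxy
  exact hinj (hP.out.equiv.injective hxy)

end GrothLib.TwistBC8
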