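import Groth.Prelude.Def_GrTwist
import Groth.Agent.Lib.TwistBC8.Algebra
import Groth.Agent.Lib.GrTilde.QCoh
import Groth.Agent.Lib.GrTilde.Mul
import Groth.Agent.Lib.BCCoh.PullSec
import Groth.Agent.Lib.QCoh.Filtration
import Groth.Agent.Lib.FittSheaf.Pullback

/-!
# Twists under base change
-/

universe u

set_option autoImplicit false
set_option linter.all false
set_option backward.isDefEq.respectTransparency false
set_option maxHeartbeats 1000000

open AlgebraicGeometry CategoryTheory TopologicalSpace Opposite TensorProduct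
open GrothLib.InvExt (mres)
open GrothLib.Ample (res)
open GrothLib.Ample.ProjTwist (ev evT fracO)
open GrothLib.BCCoh (pullRes)

noncomputable section

namespace GrothLib.TwistBC8

variable {R R' A B : Type u} [CommRing R'] [CommRing R] [Algebra R' R]
  [CommRing B] [Algebra R' B] {ℬ : ℕ → Submodule R' B} [GradedAlgebra ℬ]
  [CommRing A] [Algebra R A] [Algebra R' A] [IsScalarTower R' R A] {𝒜 : ℕ → Submodule R A} [GradedAlgebra 𝒜]
  [Algebra B A] [IsScalarTower R' B A]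
  (φ : ℬ →+*ᵍ 𝒜) (hφA : ∀ b : B, φ b = algebraMap B A b)
  (hφ : HomogeneousIdeal.irrelevant 𝒜 ≤ (HomogeneousIdeal.irrelevant ℬ).map φ) (n : ℤ)

/-- The comparison map. -/
def theta : (Scheme.Modules.pullback (Proj.map φ hφ)).obj (Twist.twist ℬ n) ⟶ Twist.twist 𝒜 n :=
  ((Scheme.Modules.pullbackPushforwardAdjunction (Proj.map φ hφ)).homEquiv _ _).symm
    (show Twist.twist ℬ n ⟶ (Scheme.Modules.pushforward (Proj.map φ hφ)).obj (Twist.twist 𝒜 n) from
      GrTwist.comap φ hφ n)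

theorem ev_appLE {V : (Proj ℬ).Opens} {V' : (Proj 𝒜).Opens} (e : V' ≤ Proj.map φ hφ ⁻¹ᵁ V) (r : Γ(Proj ℬ, V))
    (y : V') : ev y ((Proj.map φ hφ).appLE V V' e r) =
      GrTwist.locMap φ hφ y.1 (ev (⟨ProjectiveSpectrum.comap φ hφ y.1, e y.2⟩ : V) r) := by
  exact HomogeneousLocalization.val_localRingHom _

theorem theta_pullRes {V : (Proj ℬ).Opens} {V' : (Proj 𝒜).Opens} (e : V' ≤ Proj.map φ hφ ⁻¹ᵁ V)
    (s : Γ(Twist.twist ℬ n, V)) (y : V') :
    evT y ((theta φ hφ n).app V' (pullRes (Proj.map φ hφ) (Twist.twist ℬ n) V V' e s)) =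
      GrTwist.locMap φ hφ y.1 (evT (⟨ProjectiveSpectrum.comap φ hφ y.1, e y.2⟩ : V) s) := by
  let G := Proj.map φ hφ
  let u := ((Scheme.Modules.pullbackPushforwardAdjunction G).unit.app (Twist.twist ℬ n)).app V s
  have h1 : (theta φ hφ n).app (G ⁻¹ᵁ V) u =
      (show Twist.twist ℬ n ⟶ (Scheme.Modules.pushforward G).obj (Twist.twist 𝒜 n) from
        GrTwist.comap φ hφ n).app V s := by
    have h := (Scheme.Modules.pullbackPushforwardAdjunction G).homEquiv_unit (Twist.twist ℬ n) (Twist.twist 𝒜 n) (theta φ hφ n)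
    rw [theta, Equiv.apply_symm_apply] at h
    exact (congr(($h).app V s)).symm
  have h2 : (theta φ hφ n).app V' (mres ((Scheme.Modules.pullback G).obj (Twist.twist ℬ n)) e u) =
      mres (Twist.twist 𝒜 n) e ((theta φ hφ n).app (G ⁻¹ᵁ V) u) :=
    ConcreteCategory.congr_hom ((theta φ hφ n).mapPresheaf.naturality (homOfLE e).op) u
  refine (congrArg (evT y) h2).trans ?_
  rw [h1]
  rfl

variable {e : ℕ} {f : B} (hf : f ∈ ℬ e) (he : 0 < e)

theorem le_preimage : Proj.basicOpen 𝒜 (φ f) ≤ Proj.map φ hφ ⁻¹ᵁ Proj.basicOpen ℬ f :=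
  (Proj.map_preimage_basicOpen φ hφ f).ge

include hf in
theorem pow_mem_mul (k : ℕ) : f ^ k ∈ ℬ (k * e) := by simpa [smul_eq_mul] using SetLike.pow_mem_graded k hf

theorem pow_nin (k : ℕ) (y : Proj.basicOpen ℬ f) : f ^ k ∉ y.1.asHomogeneousIdeal :=
  fun hm => y.2 (y.1.isPrime.mem_of_pow_mem k hm)

theorem map_nin (k : ℕ) (y : Proj.basicOpen 𝒜 (φ f)) : φ f ^ k ∉ y.1.asHomogeneousIdeal :=
  fun hm => y.2 (y.1.isPrime.mem_of_pow_mem k hm)

/-- The constants on the open. -/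
def cst (f : B) (r : R) : Γ(Proj 𝒜, Proj.basicOpen 𝒜 (φ f)) :=
  fracO (algebraMap R A r) 1 (SetLike.algebraMap_mem_graded 𝒜 r) SetLike.GradedOne.one_mem
    fun y h => y.1.isPrime.ne_top ((Ideal.eq_top_iff_one _).mpr h)

theorem ev_cst (r : R) (y : Proj.basicOpen 𝒜 (φ f)) : ev y (cst φ f r) = algebraMap A _ (algebraMap R A r) := by
  rw [cst, Ample.ProjTwist.ev_fracO, ← Localization.mk_one_eq_algebraMap]
  rfl

theorem cst_add (r r' : R) : cst φ f (r + r') = cst φ f r + cst φ f r' :=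
  Ample.ProjTwist.ev_ext fun y => by
    rw [ev_cst, show ev y (cst φ f r + cst φ f r') = ev y (cst φ f r) + ev y (cst φ f r') from
      HomogeneousLocalization.val_add _ _, ev_cst, ev_cst, map_add, map_add]

theorem cst_mul (r r' : R) : cst φ f (r * r') = cst φ f r * cst φ f r' :=
  Ample.ProjTwist.ev_ext fun y => by
    rw [Ample.ProjTwist.ev_mul, ev_cst, ev_cst, ev_cst, map_mul, map_mul]

/-- The fraction `b / f ^ k` pulled back. -/
def gen (k p : ℕ) (hp : (p : ℤ) = (k * e : ℕ) + n) (b : ℬ p) :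
    Γ((Scheme.Modules.pullback (Proj.map φ hφ)).obj (Twist.twist ℬ n), Proj.basicOpen 𝒜 (φ f)) :=
  pullRes (Proj.map φ hφ) (Twist.twist ℬ n) (Proj.basicOpen ℬ f) _ (le_preimage φ hφ)
    (GrTilde.fracT (b : B) (f ^ k) b.2 (pow_mem_mul hf k) (pow_nin k) hp)

theorem gen_add (k p : ℕ) (hp : (p : ℤ) = (k * e : ℕ) + n) (b b' : ℬ p) :
    gen φ hφ n hf k p hp (b + b') = gen φ hφ n hf k p hp b + gen φ hφ n hf k p hp b' := by
  rw [gen, gen, gen, ← BCCoh.pullRes_add]
  congr 1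
  refine Ample.ProjTwist.evT_ext fun y => ?_
  rw [GrTilde.evT_fracT]
  refine Eq.trans ?_ (congrArg₂ (· + ·) (GrTilde.evT_fracT (𝒜 := ℬ) (b : B) (f ^ k) b.2 (pow_mem_mul hf k) (pow_nin k) hp y)
    (GrTilde.evT_fracT (𝒜 := ℬ) (b' : B) (f ^ k) b'.2 (pow_mem_mul hf k) (pow_nin k) hp y)).symm
  rw [Localization.add_mk_self]
  rfl

include hφA in
theorem gen_smul (k p : ℕ) (hp : (p : ℤ) = (k * e : ℕ) + n) (c : R') (b : ℬ p) :
    gen φ hφ n hf k p hp (c • b) = cst φ f (algebraMap R' R c) • gen φ hφ n hf k p hp b := by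
  let cO : Γ(Proj ℬ, Proj.basicOpen ℬ f) := fracO (algebraMap R' B c) 1 (SetLike.algebraMap_mem_graded ℬ c)
    SetLike.GradedOne.one_mem fun y h => y.1.isPrime.ne_top ((Ideal.eq_top_iff_one _).mpr h)
  have h1 : (Proj.map φ hφ).appLE _ _ (le_preimage φ hφ (f := f)) cO = cst φ f (algebraMap R' R c) :=
    Ample.ProjTwist.ev_ext fun y => by
      rw [ev_appLE, ev_cst, Ample.ProjTwist.ev_fracO, GrTwist.locMap_mk, ← Localization.mk_one_eq_algebraMap,
        Localization.mk_eq_mk_iff, Localization.r_iff_exists]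
      exact ⟨1, by simp [hφA, ← IsScalarTower.algebraMap_apply]⟩
  rw [gen, gen, ← h1, ← BCCoh.pullRes_smul]
  congr 1
  refine Ample.ProjTwist.evT_ext fun y => ?_
  rw [Ample.ProjTwist.evT_smul, GrTilde.evT_fracT, GrTilde.evT_fracT, Ample.ProjTwist.ev_fracO,
    Localization.mk_mul, Localization.mk_eq_mk_iff, Localization.r_iff_exists]
  exact ⟨1, by simp [Algebra.smul_def, mul_assoc, mul_comm]⟩

/-- Combinations of the fractions with denominator `f ^ k`. -/
def comb (k p : ℕ) (hp : (p : ℤ) = (k * e : ℕ) + n) : R ⊗[R'] ℬ p →+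
    Γ((Scheme.Modules.pullback (Proj.map φ hφ)).obj (Twist.twist ℬ n), Proj.basicOpen 𝒜 (φ f)) :=
  TensorProduct.liftAddHom
    (AddMonoidHom.mk' (fun r => AddMonoidHom.mk' (fun b => cst φ f r • gen φ hφ n hf k p hp b)
      fun b b' => (congrArg (fun s : Γ((Scheme.Modules.pullback (Proj.map φ hφ)).obj (Twist.twist ℬ n), Proj.basicOpen 𝒜 (φ f)) => cst φ f r • s) (gen_add φ hφ n hf k p hp b b')).trans (smul_add _ _ _)) fun r r' => AddMonoidHom.ext fun b => by
        show cst φ f (r + r') • gen φ hφ n hf k p hp b = cst φ f r • gen φ hφ n hf k p hp b + cst φ f r' • gen φ hφ n hf k p hp b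
        rw [cst_add, add_smul])
    fun c r b => by
      show cst φ f (c • r) • gen φ hφ n hf k p hp b = cst φ f r • gen φ hφ n hf k p hp (c • b)
      rw [gen_smul φ hφA hφ, ← mul_smul, ← cst_mul, Algebra.smul_def, mul_comm]

theorem comb_tmul (k p : ℕ) (hp : (p : ℤ) = (k * e : ℕ) + n) (r : R) (b : ℬ p) :
    comb φ hφA hφ n hf k p hp (r ⊗ₜ b) = cst φ f r • gen φ hφ n hf k p hp b := rfl

/-- Its image. -/
theorem evT_theta_comb (k p : ℕ) (hp : (p : ℤ) = (k * e : ℕ) + n) (t : R ⊗[R'] ℬ p)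
    (y : Proj.basicOpen 𝒜 (φ f)) :
    evT y ((theta φ hφ n).app _ (comb φ hφA hφ n hf k p hp t)) =
      Localization.mk (pieceMap (A := A) ℬ p t) ⟨φ f ^ k, map_nin φ k y⟩ := by
  induction t using TensorProduct.induction_on with
  | zero => rw [map_zero, map_zero, map_zero, Localization.mk_zero]; rfl
  | add a b ha hb =>
    rw [map_add, map_add, map_add, ← Localization.add_mk_self, ← ha, ← hb]
    rfl
  | tmul r b =>
    rw [comb_tmul, Scheme.Modules.Hom.app_smul, Ample.ProjTwist.evT_smul, gen, theta_pullRes, GrTilde.evT_fracT,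
      GrTwist.locMap_mk, ev_cst, ← Localization.mk_one_eq_algebraMap, Localization.mk_mul, pieceMap_tmul,
      Localization.mk_eq_mk_iff, Localization.r_iff_exists]
    exact ⟨1, by simp [hφA, mul_assoc, mul_comm]⟩

/-- Multiplication by a homogeneous element on the tensor. -/
def mulBy {i j q : ℕ} (c : ℬ i) (h : i + j = q) : R ⊗[R'] ℬ j →ₗ[R] R ⊗[R'] ℬ q :=
  LinearMap.baseChange R
    (((LinearMap.mulLeft R' (c : B)) ∘ₗ (ℬ j).subtype).codRestrict (ℬ q)
      fun b => h ▸ SetLike.mul_mem_graded c.2 b.2)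

theorem mulBy_tmul {i j q : ℕ} (c : ℬ i) (h : i + j = q) (r : R) (b : ℬ j) :
    mulBy (R := R) c h (r ⊗ₜ b) = r ⊗ₜ ⟨(c : B) * b, h ▸ SetLike.mul_mem_graded c.2 b.2⟩ :=
  LinearMap.baseChange_tmul ..

theorem pieceMap_mulBy {i j q : ℕ} (c : ℬ i) (h : i + j = q) (t : R ⊗[R'] ℬ j) :
    pieceMap (A := A) ℬ q (mulBy c h t) = algebraMap B A (c : B) * pieceMap (A := A) ℬ j t := by
  induction t using TensorProduct.induction_on with
  | zero => simp
  | add a b ha hb => simp [ha, hb, mul_add]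
  | tmul r b => rw [mulBy_tmul, pieceMap_tmul, pieceMap_tmul, map_mul, mul_left_comm]

theorem comb_step (k p m q : ℕ) (hp : (p : ℤ) = (k * e : ℕ) + n) (hq : (q : ℤ) = ((k + m) * e : ℕ) + n)
    (h : m * e + p = q) (t : R ⊗[R'] ℬ p) :
    comb φ hφA hφ n hf (k + m) q hq (mulBy (⟨f ^ m, pow_mem_mul hf m⟩ : ℬ (m * e)) h t) =
      comb φ hφA hφ n hf k p hp t := by
  induction t using TensorProduct.induction_on with
  | zero => simp
  | add a b ha hb => rw [map_add, map_add, map_add, ha, hb]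
  | tmul r b =>
    rw [mulBy_tmul, comb_tmul, comb_tmul]
    congr 1
    unfold gen
    congr 1
    refine Ample.ProjTwist.evT_ext fun y => ?_
    rw [GrTilde.evT_fracT, GrTilde.evT_fracT, Localization.mk_eq_mk_iff, Localization.r_iff_exists]
    exact ⟨1, by simp only [OneMemClass.coe_one, one_mul]; ring⟩

theorem comb_mul (m : ℕ) (c : ℬ (m * e)) (k p q : ℕ) (hp : (p : ℤ) = (k * e : ℕ) + n)
    (hq : (q : ℤ) = ((m + k) * e : ℕ) + n) (h : m * e + p = q) (t : R ⊗[R'] ℬ p) :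
    comb φ hφA hφ n hf (m + k) q hq (mulBy c h t) =
      (Proj.map φ hφ).appLE _ _ (le_preimage φ hφ)
        (fracO (c : B) (f ^ m) c.2 (pow_mem_mul hf m) (pow_nin m)) • comb φ hφA hφ n hf k p hp t := by
  induction t using TensorProduct.induction_on with
  | zero => simp
  | add a b ha hb => rw [map_add, map_add, map_add, ha, hb, smul_add]
  | tmul r b =>
    rw [mulBy_tmul, comb_tmul, comb_tmul, smul_comm]
    congr 1
    rw [gen, gen, ← BCCoh.pullRes_smul]
    congr 1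
    refine Ample.ProjTwist.evT_ext fun y => ?_
    rw [Ample.ProjTwist.evT_smul, GrTilde.evT_fracT, GrTilde.evT_fracT, Ample.ProjTwist.ev_fracO,
      Localization.mk_mul, Localization.mk_eq_mk_iff, Localization.r_iff_exists]
    exact ⟨1, by simp only [OneMemClass.coe_one, one_mul, Submonoid.coe_mul]; ring⟩

include hf he hφA in
theorem exists_comb [Algebra.IsPushout R' R B A]
    (z : Γ((Scheme.Modules.pullback (Proj.map φ hφ)).obj (Twist.twist ℬ n), Proj.basicOpen 𝒜 (φ f))) :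
    ∃ (k p : ℕ) (hp : (p : ℤ) = (k * e : ℕ) + n) (t : R ⊗[R'] ℬ p), comb φ hφA hφ n hf k p hp t = z := by
  let P := fun z => ∃ (k p : ℕ) (hp : (p : ℤ) = (k * e : ℕ) + n) (t : R ⊗[R'] ℬ p),
    comb φ hφA hφ n hf k p hp t = z
  show P z
  have hadd : ∀ x y, P x → P y → P (x + y) := by
    rintro x y ⟨k, p, hp, t, rfl⟩ ⟨k', p', hp', t', rfl⟩
    have hq : ((k' * e + p : ℕ) : ℤ) = ((k + k') * e : ℕ) + n := by push_cast; push_cast at hp; linarith
    have hq' : k * e + p' = k' * e + p := by zify; push_cast at hp hp'; linarith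
    refine ⟨k + k', k' * e + p, hq,
      mulBy (⟨f ^ k', pow_mem_mul hf k'⟩ : ℬ (k' * e)) rfl t + mulBy (⟨f ^ k, pow_mem_mul hf k⟩ : ℬ (k * e)) hq' t', ?_⟩
    have comm : ∀ (a a' : ℕ) (_ : a = a') (q : ℕ) (h : (q : ℤ) = (a * e : ℕ) + n) (h' : (q : ℤ) = (a' * e : ℕ) + n)
        (u : R ⊗[R'] ℬ q), comb φ hφA hφ n hf a q h u = comb φ hφA hφ n hf a' q h' u := by
      rintro a _ rfl q h h' u
      rfl
    rw [map_add, comb_step φ hφA hφ n hf k p k' _ hp, comm _ _ (Nat.add_comm k k') _ hq (by rw [Nat.add_comm k' k]; exact hq),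
      comb_step φ hφA hφ n hf k' p' k _ hp']
  have hzero : P 0 := by
    refine ⟨n.natAbs, (((n.natAbs * e : ℕ) : ℤ) + n).toNat, ?_, 0, map_zero _⟩
    have : n.natAbs ≤ n.natAbs * e := Nat.le_mul_of_pos_right _ he
    omega
  let G := Proj.map φ hφ
  haveI : (Twist.twist ℬ n).IsQuasicoherent := GrTilde.isQuasicoherent_twist ℬ n
  have hV := Proj.isAffineOpen_basicOpen ℬ f hf he
  have hV' := Proj.isAffineOpen_basicOpen 𝒜 (φ f) (φ.map_mem hf) he
  letI : Algebra Γ(Proj ℬ, Proj.basicOpen ℬ f) Γ(Proj 𝒜, Proj.basicOpen 𝒜 (φ f)) :=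
    (G.appLE _ _ (le_preimage φ hφ)).hom.toAlgebra
  letI : Module Γ(Proj ℬ, Proj.basicOpen ℬ f) Γ((Scheme.Modules.pullback G).obj (Twist.twist ℬ n), Proj.basicOpen 𝒜 (φ f)) :=
    Module.compHom _ (G.appLE _ _ (le_preimage φ hφ)).hom
  haveI : IsScalarTower Γ(Proj ℬ, Proj.basicOpen ℬ f) Γ(Proj 𝒜, Proj.basicOpen 𝒜 (φ f))
      Γ((Scheme.Modules.pullback G).obj (Twist.twist ℬ n), Proj.basicOpen 𝒜 (φ f)) :=
    IsScalarTower.of_algebraMap_smul fun _ _ => rfl
  obtain ⟨pm, hpm, hpmv⟩ := BCCoh.isBaseChange_pullRes G (Twist.twist ℬ n) hV hV' (le_preimage φ hφ)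
  obtain ⟨z, rfl⟩ := hpm.equiv.surjective z
  induction z using TensorProduct.induction_on with
  | zero => rw [map_zero]; exact hzero
  | add x y hx hy => rw [map_add]; exact hadd _ _ hx hy
  | tmul c s =>
    rw [hpm.equiv_tmul, hpmv]
    obtain ⟨k, -, p, a, hp, ha, hval⟩ := GrTilde.exists_frac (ℳ := ℬ) ℬ hf he s
    have hs : s = GrTilde.fracT a (f ^ k) ha (pow_mem_mul hf k) (pow_nin k) hp :=
      Ample.ProjTwist.evT_ext fun y => hval y
    rw [hs]
    show P (c • gen φ hφ n hf k p hp ⟨a, ha⟩)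
    obtain ⟨m, a', ha', hc⟩ := GrTilde.exists_ev_eq (φ.map_mem hf) he c
    obtain ⟨t', rfl⟩ := exists_pieceMap_eq φ hφA (m • e) ha'
    have key : ∀ u : R ⊗[R'] ℬ (m * e), ∀ cu : Γ(Proj 𝒜, Proj.basicOpen 𝒜 (φ f)),
        (∀ y, ev y cu = Localization.mk (pieceMap (A := A) ℬ (m * e) u) ⟨φ f ^ m, map_nin φ m y⟩) →
        P (cu • gen φ hφ n hf k p hp ⟨a, ha⟩) := by
      intro u
      induction u using TensorProduct.induction_on with
      | zero =>
        intro cu hcu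
        rw [show cu = 0 from Ample.ProjTwist.ev_ext fun y => by rw [hcu, map_zero, Localization.mk_zero]; exact HomogeneousLocalization.val_zero.symm,
          zero_smul]
        exact hzero
      | add u₁ u₂ h₁ h₂ =>
        intro cu hcu
        let c₁ : Γ(Proj 𝒜, Proj.basicOpen 𝒜 (φ f)) := fracO (pieceMap (A := A) ℬ (m * e) u₁) (φ f ^ m)
          (pieceMap_mem φ hφA _ u₁) (pow_mem_mul (φ.map_mem hf) m) (map_nin φ m)
        let c₂ : Γ(Proj 𝒜, Proj.basicOpen 𝒜 (φ f)) := fracO (pieceMap (A := A) ℬ (m * e) u₂) (φ f ^ m)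
          (pieceMap_mem φ hφA _ u₂) (pow_mem_mul (φ.map_mem hf) m) (map_nin φ m)
        rw [show cu = c₁ + c₂ from Ample.ProjTwist.ev_ext fun y => by
          rw [hcu, show ev y (c₁ + c₂) = ev y c₁ + ev y c₂ from HomogeneousLocalization.val_add _ _,
            Ample.ProjTwist.ev_fracO, Ample.ProjTwist.ev_fracO, Localization.add_mk_self, map_add], add_smul]
        exact hadd _ _ (h₁ c₁ fun y => Ample.ProjTwist.ev_fracO _ _ _ _ _ _)
          (h₂ c₂ fun y => Ample.ProjTwist.ev_fracO _ _ _ _ _ _)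
      | tmul r b =>
        intro cu hcu
        have hq : ((m * e + p : ℕ) : ℤ) = ((m + k) * e : ℕ) + n := by push_cast; push_cast at hp; linarith
        refine ⟨m + k, m * e + p, hq, mulBy b rfl (r ⊗ₜ (⟨a, ha⟩ : ℬ p)), ?_⟩
        rw [comb_mul φ hφA hφ n hf m b k p _ hp, comb_tmul, ← mul_smul]
        congr 1
        refine Ample.ProjTwist.ev_ext fun y => ?_
        rw [hcu, Ample.ProjTwist.ev_mul, ev_appLE, Ample.ProjTwist.ev_fracO, GrTwist.locMap_mk, ev_cst,
          ← Localization.mk_one_eq_algebraMap, Localization.mk_mul, pieceMap_tmul, Localization.mk_eq_mk_iff,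
          Localization.r_iff_exists]
        exact ⟨1, by simp [hφA, mul_assoc, mul_comm]⟩
    exact key t' c hc

include hf he hφA in
theorem bijective_theta_app [Algebra.IsPushout R' R B A] :
    Function.Bijective ((theta φ hφ n).app (Proj.basicOpen 𝒜 (φ f))) := by
  constructor
  · rw [injective_iff_map_eq_zero]
    intro z hz
    obtain ⟨k, p, hp, t, rfl⟩ := exists_comb φ hφA hφ n hf he z
    obtain ⟨N, hN⟩ := GrTilde.exists_pow_smul_eq_zero_of_mk (ℳ := 𝒜) 𝒜 (φ.map_mem hf) he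
      (pieceMap_mem φ hφA p t) fun y hy => by
        have h := evT_theta_comb φ hφA hφ n hf k p hp t ⟨y, hy⟩
        rw [hz] at h
        exact ⟨_, h.symm⟩
    have hq : ((N * e + p : ℕ) : ℤ) = ((k + N) * e : ℕ) + n := by push_cast; push_cast at hp; linarith
    rw [← comb_step φ hφA hφ n hf k p N _ hp hq rfl, show mulBy (⟨f ^ N, pow_mem_mul hf N⟩ : ℬ (N * e)) rfl t = 0 from
      injective_pieceMap (R := R) (A := A) _ (show pieceMap (A := A) ℬ _ (mulBy (⟨f ^ N, pow_mem_mul hf N⟩ : ℬ (N * e)) rfl t) = pieceMap (A := A) ℬ _ 0 by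
        rw [pieceMap_mulBy, map_zero, map_pow, ← hφA]
        exact hN), map_zero]
  · intro s
    obtain ⟨k, -, p, a, hp, ha, hval⟩ := GrTilde.exists_frac (ℳ := 𝒜) 𝒜 (φ.map_mem hf) he s
    obtain ⟨t, rfl⟩ := exists_pieceMap_eq φ hφA p ha
    exact ⟨comb φ hφA hφ n hf k p hp t, Ample.ProjTwist.evT_ext fun y =>
      (evT_theta_comb φ hφA hφ n hf k p hp t y).trans (hval y).symm⟩

include hφA in
theorem isIso_theta [Algebra.IsPushout R' R B A] : IsIso (theta φ hφ n) := by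
  haveI : (Twist.twist ℬ n).IsQuasicoherent := GrTilde.isQuasicoherent_twist ℬ n
  haveI : (Twist.twist 𝒜 n).IsQuasicoherent := GrTilde.isQuasicoherent_twist 𝒜 n
  haveI := FittSheaf.isQuasicoherent_pullback (Proj.map φ hφ) (Twist.twist ℬ n)
  refine QCoh.isIso_of_bijective_on_cover _
    (fun df : Σ d : {d : ℕ // 0 < d}, ℬ d.1 => Proj.basicOpen 𝒜 (φ (df.2 : B))) ?_
    (fun df => Proj.isAffineOpen_basicOpen 𝒜 _ (φ.map_mem df.2.2) df.1.2)
    fun df => bijective_theta_app φ hφA hφ n df.2.2 df.1.2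
  show ⨆ df : Σ d : {d : ℕ // 0 < d}, ℬ d.1, Proj.basicOpen 𝒜 (φ (df.2 : B)) = ⊤
  refine eq_top_iff.2 fun y _ => ?_
  have hy : ProjectiveSpectrum.comap φ hφ y ∈
      ⨆ df : Σ d : {d : ℕ // 0 < d}, ℬ d.1, Proj.basicOpen ℬ (df.2 : B) := by
    rw [GrTilde.iSup_basicOpen_pos]
    trivial
  obtain ⟨df, hdf⟩ := Opens.mem_iSup.1 hy
  exact Opens.mem_iSup.2 ⟨df, hdf⟩

end GrothLib.TwistBC8
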